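import Cfsg.Agent.H377.SporRow
import Cfsg.Agent.BpSpor.Row.Fi24
import Cfsg.Agent.H843.N29
import Cfsg.Agent.FastGrp
import Cfsg.Agent.Prune
set_option linter.all false
prune_inst 0x7f00000000000000000000000000000000000000000000000000000000000000000000000000000000000000000000000000000000000000000000000000000000000000000000000000000000000000003fffffffffffffffffffffffffffbeffbdffffffff
open scoped Cfsg.Agent.FastGrp

/-!
# S4329, the row `Fi24'` (helper377): the elements of order 29 are self-centralising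
-/

set_option autoImplicit false

namespace Cfsg.Agent.H377.SporRow

open Subgroup Cfsg.Agent.H568 Cfsg

/-- in `Fi24` the elements of order 29 commute with no element of another prime order -/
theorem fi24_29 {x y : Spor.Fi24} (hx : orderOf x = 29) (hy : (orderOf y).Prime) (hy29 : orderOf y ≠ 29) :
    x * y ≠ y * x := by
  have hfin : Finite Spor.Fi24 := R08.FiTwentyFour.finite_Fi24
  have : Fact (Nat.Prime 29) := ⟨by norm_num⟩
  obtain ⟨P, hP⟩ := exists_cyclic (K := Spor.Fi24) (p := 29) (by rw [H843.Fi24N.card_Fi24]; norm_num)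
  obtain ⟨s, hs, -⟩ := conj_of_cyclic P hP H843.D29.order x hx
  intro hxy
  have hm : H843.D29.D.x ∈ zpowers (s⁻¹ * x * s) := by
    have h1 : zpowers (s⁻¹ * x * s) = zpowers H843.D29.D.x := by
      have h2 : s⁻¹ * x * s ∈ zpowers H843.D29.D.x := by
        obtain ⟨i, hi⟩ := hs
        refine ⟨i, ?_⟩
        have hi' : (s * H843.D29.D.x * s⁻¹) ^ i = x := hi
        show H843.D29.D.x ^ i = s⁻¹ * x * s
        rw [← hi', conj_zpow]
        group
      refine Subgroup.eq_of_le_of_card_ge (zpowers_le.2 h2) ?_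
      rw [Nat.card_zpowers, Nat.card_zpowers, H843.D29.order]
      have h3 : orderOf (s⁻¹ * x * s) = 29 := by
        have := orderOf_conj' s⁻¹ x
        rw [inv_inv] at this
        rw [this, hx]
      rw [h3]
    rw [h1]
    exact mem_zpowers _
  obtain ⟨i, hi⟩ := hm
  have hi' : (s⁻¹ * x * s) ^ i = H843.D29.D.x := hi
  have hy' : orderOf (s⁻¹ * y * s) = orderOf y := by
    have := orderOf_conj' s⁻¹ y
    rwa [inv_inv] at this
  refine not_comm_of_selfcent (l := 29) hy (by norm_num) hy29 H843.D29.main.2 (s⁻¹ * y * s) hy' ?_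
  have hc : Commute (s⁻¹ * x * s) (s⁻¹ * y * s) := by
    show s⁻¹ * x * s * (s⁻¹ * y * s) = s⁻¹ * y * s * (s⁻¹ * x * s)
    calc s⁻¹ * x * s * (s⁻¹ * y * s) = s⁻¹ * (x * y) * s := by group
      _ = s⁻¹ * (y * x) * s := by rw [hxy]
      _ = _ := by group
  rw [← hi']
  exact (hc.zpow_left i).eq

theorem noNorm_fi24 {K : Type*} [Group K] [Finite K] (h : Spor.IsoFi24' K) {p : ℕ} [hp : Fact p.Prime]
    (h357 : p = 3 ∨ p = 5 ∨ p = 7) : ∃ x : K, NoNorm p x := by
  have hcard := (BpSpor.Row.dat_fi24 h).card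
  obtain ⟨e⟩ := h
  have : Fact (Nat.Prime 29) := ⟨by norm_num⟩
  obtain ⟨x, hx⟩ := exists_prime_orderOf_dvd_card' (G := K) 29 (by rw [hcard]; norm_num)
  have ho : ∀ w : K, orderOf ((e w : Spor.Fi24') : Spor.Fi24) = orderOf w := fun w => by
    rw [Subgroup.orderOf_coe, MulEquiv.orderOf_eq]
  obtain ⟨N, hN, hk⟩ : ∃ N : ℕ, ¬ p ^ (N + 1) ∣ Nat.card K ∧ ∀ k ∈ Finset.Icc 1 N, ¬ 29 ∣ p ^ k - 1 := by
    rw [hcard]
    rcases h357 with rfl | rfl | rfl
    · exact ⟨16, by norm_num, by decide +kernel⟩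
    · exact ⟨2, by norm_num, by decide +kernel⟩
    · exact ⟨3, by norm_num, by decide +kernel⟩
  refine ⟨x, noNorm_of (l := 29) (by norm_num) hx (fun y hy hxy => ?_) N hN hk⟩
  refine fi24_29 (x := ((e x : Spor.Fi24') : Spor.Fi24)) (y := ((e y : Spor.Fi24') : Spor.Fi24)) ?_ ?_ ?_ ?_
  · rw [ho, hx]
  · rw [ho, hy]; exact hp.1
  · rw [ho, hy]; omega
  · rw [← Subgroup.coe_mul, ← Subgroup.coe_mul, ← map_mul, ← map_mul, hxy]

/-- **The row `Fi24'` of S4329.** -/
theorem row_fi24 (K : Type*) [Group K] [Finite K] [IsSimpleGroup K] (h : Spor.IsoFi24' K) (p : ℕ)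
    [hp : Fact p.Prime] (hp2 : p ≠ 2) : Row p K := by
  refine row_of_dat (BpSpor.Row.dat_fi24 h)
    (l := [(2, 21), (3, 16), (5, 2), (7, 3), (11, 1), (13, 1), (17, 1), (23, 1), (29, 1)]) (by decide +kernel)
    (by norm_num) (fun x hx hx2 hx3 _ => ?_) hp2
  simp only [List.mem_cons, List.not_mem_nil, or_false] at hx
  rcases hx with rfl | rfl | rfl | rfl | rfl | rfl | rfl | rfl | rfl
  · exact absurd rfl hx3
  · exact noNorm_fi24 h (Or.inl rfl)
  · exact noNorm_fi24 h (Or.inr (Or.inl rfl))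
  · exact noNorm_fi24 h (Or.inr (Or.inr rfl))
  · exact absurd hx2 (by norm_num)
  · exact absurd hx2 (by norm_num)
  · exact absurd hx2 (by norm_num)
  · exact absurd hx2 (by norm_num)
  · exact absurd hx2 (by norm_num)

end Cfsg.Agent.H377.SporRow
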