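import Cfsg.Agent.H377.OddThree_m3
import Cfsg.Agent.H94.Sp.Base_m3
import Cfsg.Agent.Prune
set_option linter.all false
prune_inst 0x7f00000000000000000000000000000000000000000000000000000000000000000000000000000000000000000000000000000000000000000000000000000000000000000000000000000000000000003ffff7ffffffffffffffffffffffbeffbdefffffff
open scoped Cfsg.Agent.FastGrp

-- part: H377/RowFpf
section
/-!
# Isometries of prime order without fixed vectors and the sign of the form (helper377)

`dvd_sub_one` : if a permutation of prime order `p` of a finite set with a function `Q` of sign `ε` in dimension `2m`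
preserves `Q` and has exactly one fixed point (with `Q = 0` there), then `p ∣ ε q^m - 1`.
`commute_sign` : an isometry of prime order `p` commuting with an isometry of prime order `l` having one large block.
-/

set_option autoImplicit false
set_option linter.unusedSectionVars false
set_option linter.style.haveILetI false

namespace Cfsg.Agent.H377.Fpf

open QuadraticMap Module
open Cfsg.Agent.LieClassical.OrthCore
open Cfsg.Agent.H182.Cent (Inv SForm perp IsoP NonDeg fixS mem_fixS mem_perp Large)

/-- A map of prime period without fixed points. -/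
theorem dvd_card {α : Type*} [Finite α] {p : ℕ} (hp : p.Prime) (f : α → α) (hf : ∀ a, f^[p] a = a)
    (hfix : ∀ a, f a ≠ a) : p ∣ Nat.card α := by
  classical
  letI := Fintype.ofFinite α
  haveI : Fact p.Prime := ⟨hp⟩
  let g : Function.End α := f
  have hpow : ∀ (n : ℕ) (a : α), (g ^ n) a = f^[n] a := by
    intro n
    induction n with
    | zero => exact fun a => rfl
    | succ n ih =>
      intro a
      rw [pow_succ, Function.iterate_succ_apply]
      exact ih (f a)
  have h := Equiv.Perm.card_fixedPoints_modEq (f := g) (p := p) (n := 1) (by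
    rw [pow_one]
    funext a
    rw [hpow, hf]
    rfl)
  have h0 : Fintype.card (Function.fixedPoints g) = 0 := by
    rw [Fintype.card_eq_zero_iff]
    exact ⟨fun a => hfix a.1 a.2⟩
  rw [Nat.card_eq_fintype_card]
  exact (Nat.modEq_zero_iff_dvd.1 (h.trans (by rw [h0])))

variable {F : Type*} [Field F] [Finite F]

/-- **Fixed point free isometries and the sign.** -/
theorem dvd_sub_one {V : Type*} [Finite V] {Q : V → F} {m : ℕ} {ε : ℤ}
    (h : HasSign Q m ε) {p : ℕ} (hp : p.Prime) (g : V → V) (hgp : ∀ v, g^[p] v = v) (hQ : ∀ v, Q (g v) = Q v) (v0 : V)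
    (h0 : Q v0 = 0) (hg0 : g v0 = v0) (hfix : ∀ v, g v = v → v = v0) :
    (p : ℤ) ∣ ε * (Nat.card F : ℤ) ^ m - 1 := by
  classical
  letI := Fintype.ofFinite V
  letI := Fintype.ofFinite F
  obtain ⟨ψ, hψ⟩ := exists_addChar F
  have hs := h ψ hψ
  rw [gs_eq] at hs
  have hinj : Function.Injective g := by
    intro a b hab
    obtain ⟨k, hk⟩ : ∃ k, p = k + 1 := ⟨p - 1, by have := hp.pos; omega⟩
    rw [← hgp a, ← hgp b, hk, Function.iterate_succ_apply, Function.iterate_succ_apply, hab]
  have e1 : ∑ v, ψ (Q v) = 1 + ∑ v ∈ Finset.univ.erase v0, ψ (Q v) := by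
    rw [← Finset.add_sum_erase _ _ (Finset.mem_univ v0), h0, AddChar.map_zero_eq_one]
  have e2 : ∑ v ∈ Finset.univ.erase v0, ψ (Q v) =
      ∑ c : F, ((((Finset.univ.erase v0).filter (fun v => Q v = c)).card : ℕ) : ℂ) * ψ c := by
    rw [← Finset.sum_fiberwise (Finset.univ.erase v0) Q]
    refine Finset.sum_congr rfl fun c _ => ?_
    rw [Finset.sum_congr rfl (fun v hv => by rw [(Finset.mem_filter.1 hv).2] :
      ∀ v ∈ (Finset.univ.erase v0).filter (fun v => Q v = c), ψ (Q v) = ψ c), Finset.sum_const, nsmul_eq_mul]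
  have e3 : ∀ c : F, p ∣ ((Finset.univ.erase v0).filter (fun v => Q v = c)).card := by
    intro c
    have hmem : ∀ v : {v : V // v ∈ (Finset.univ.erase v0).filter (fun v => Q v = c)},
        g v ∈ (Finset.univ.erase v0).filter (fun v => Q v = c) := by
      rintro ⟨v, hv⟩
      simp only [Finset.mem_filter, Finset.mem_erase, Finset.mem_univ, and_true] at hv ⊢
      exact ⟨fun h => hv.1 (hinj (h.trans hg0.symm)), by rw [hQ]; exact hv.2⟩
    have h1 := dvd_card (α := {v : V // v ∈ (Finset.univ.erase v0).filter (fun v => Q v = c)}) hp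
      (fun v => ⟨g v, hmem v⟩) ?_ ?_
    · rwa [Nat.card_eq_fintype_card, Fintype.card_coe] at h1
    · intro a
      have key : ∀ (n : ℕ) (a : {v : V // v ∈ (Finset.univ.erase v0).filter (fun v => Q v = c)}),
          (((fun v => ⟨g v, hmem v⟩ : {v : V // v ∈ (Finset.univ.erase v0).filter (fun v => Q v = c)} →
            {v : V // v ∈ (Finset.univ.erase v0).filter (fun v => Q v = c)})^[n] a :
            {v : V // v ∈ (Finset.univ.erase v0).filter (fun v => Q v = c)}) : V) = g^[n] a := by
        intro n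
        induction n with
        | zero => exact fun a => rfl
        | succ n ih =>
          intro a
          rw [Function.iterate_succ_apply, Function.iterate_succ_apply, ih]
      apply Subtype.ext
      rw [key, hgp]
    · rintro ⟨v, hv⟩ h
      simp only [Finset.mem_filter, Finset.mem_erase, Finset.mem_univ, and_true] at hv
      exact hv.1 (hfix _ (congrArg Subtype.val h))
  choose k hk using e3
  set T : ℂ := ∑ c : F, (k c : ℂ) * ψ c with hT
  have e4 : (ε : ℂ) * (Nat.card F : ℂ) ^ m - 1 = p * T := by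
    rw [← hs, e1, e2, hT, Finset.mul_sum, add_sub_cancel_left]
    refine Finset.sum_congr rfl fun c _ => ?_
    rw [hk c]
    push_cast
    ring
  have hint : IsIntegral ℤ T := by
    refine IsIntegral.sum _ fun c _ => ?_
    refine IsIntegral.mul ?_ ?_
    · exact_mod_cast (isIntegral_algebraMap (R := ℤ) (A := ℂ) (x := (k c : ℤ)))
    · have hq : 0 < Nat.card F := Nat.card_pos
      refine IsIntegral.of_pow hq ?_
      have h1 : ψ c ^ Nat.card F = 1 := by
        rw [← AddChar.map_nsmul_eq_pow, card_nsmul_eq_zero', AddChar.map_zero_eq_one]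
      rw [h1]
      exact isIntegral_one
  have hp0 : (p : ℂ) ≠ 0 := by exact_mod_cast hp.ne_zero
  have e5 : T = ((((ε * (Nat.card F : ℤ) ^ m - 1 : ℤ) : ℚ) / (p : ℚ) : ℚ) : ℂ) := by
    push_cast
    rw [e4]
    field_simp
  rw [e5] at hint
  have hint2 : IsIntegral ℤ (((ε * (Nat.card F : ℤ) ^ m - 1 : ℤ) : ℚ) / (p : ℚ) : ℚ) := by
    have := (isIntegral_algebraMap_iff (R := ℤ) (A := ℚ) (B := ℂ) (algebraMap ℚ ℂ).injective).1 hint
    exact this
  obtain ⟨z, hz⟩ := IsIntegrallyClosed.isIntegral_iff.1 hint2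
  refine ⟨z, ?_⟩
  have hp1 : (p : ℚ) ≠ 0 := by exact_mod_cast hp.ne_zero
  have h3 : ((ε * (Nat.card F : ℤ) ^ m - 1 : ℤ) : ℚ) = (p : ℚ) * (z : ℚ) := by
    have h4 : (z : ℚ) = ((ε * (Nat.card F : ℤ) ^ m - 1 : ℤ) : ℚ) / (p : ℚ) := hz
    rw [h4]
    field_simp
  exact_mod_cast h3

/-- Even dimensional nondegenerate forms have a sign. -/
theorem exists_sign {W : Type*} [AddCommGroup W] [Module F W] [Finite W] (Q : QuadraticForm F W) (hQ : Nondeg Q) {m : ℕ}
    (hm : finrank F W = 2 * m) : ∃ ε : ℤ, (ε = 1 ∨ ε = -1) ∧ HasSign (⇑Q) m ε := by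
  haveI : FiniteDimensional F W := Module.Finite.of_finite
  rcases Nat.eq_zero_or_pos m with rfl | hm1
  · refine ⟨1, Or.inl rfl, ?_⟩
    have hs : Subsingleton W := Module.finrank_zero_iff.1 (by simpa using hm)
    exact hasSign_zero _ fun v => by rw [Subsingleton.elim v 0, QuadraticMap.map_zero]
  · rcases classify_all hm1 hm Q hQ with ⟨e, he⟩ | ⟨ζ, hζ, e, he⟩
    · exact ⟨1, Or.inl rfl, (hasSign_quadFormPlus m).congr e.toEquiv he⟩
    · refine ⟨-1, Or.inr rfl, ?_⟩
      have h := (hasSign_quadFormMinus (m - 1) hζ).congr e.toEquiv he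
      rwa [Nat.sub_add_cancel hm1] at h

end Cfsg.Agent.H377.Fpf
end

-- part: H377/RowSplit
section
/-!
# Two commuting isometries of odd prime orders (helper377)

`commute_sign` : `x` an isometry of odd prime order `l` of a nondegenerate quadratic space of dimension `2n` with one
block of dimension `2m`, `m ≥ n - 1`, and `y ≠ 1` an isometry of odd prime order `p` commuting with `x`: then `p` divides
`q^m - ε_Y` or `q - ε_V ε_Y`, where `l ∣ q^m - ε_Y`.
-/

set_option autoImplicit false
set_option linter.unusedSectionVars false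
set_option linter.style.haveILetI false

namespace Cfsg.Agent.H377.Fpf

open QuadraticMap Module
open Cfsg.Agent.LieClassical.OrthCore
open Cfsg.Agent.H182.Cent (Inv SForm perp IsoP NonDeg fixS mem_fixS mem_perp Large resE resE_pow)

variable {F : Type*} [Field F] [Finite F] {V : Type*} [AddCommGroup V] [Module F V] [Finite V]
  {Q : QuadraticForm F V}

/-- the polar form of a quadratic form -/
theorem sform (Q : QuadraticForm F V) : SForm (RingHom.id F) (polar ⇑Q) where
  add_left u v w := polar_add_left Q u v w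
  smul_left c v w := by rw [polar_smul_left, smul_eq_mul]
  add_right u v w := polar_add_right Q u v w
  smul_right c v w := by rw [polar_smul_right, smul_eq_mul]; rfl
  refl v w h := by rw [polar_comm]; exact h

/-- Isometries of odd prime order different from the characteristic. -/
structure IsoQ (Q : QuadraticForm F V) (x : Module.End F V) (l : ℕ) : Prop where
  nondeg : Nondeg Q
  isom : ∀ v, Q (x v) = Q v
  prime : l.Prime
  ne_two : l ≠ 2
  pow : x ^ l = 1
  char : (l : F) ≠ 0
  ne_one : x ≠ 1

variable {x : Module.End F V} {l : ℕ}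

theorem polar_isom (hx : ∀ v, Q (x v) = Q v) (v w : V) : polar ⇑Q (x v) (x w) = polar ⇑Q v w := by
  rw [polar, ← map_add, hx, hx, hx]
  rfl

theorem IsoQ.isoP (h : IsoQ Q x l) : IsoP (sform Q) x l where
  nondeg := h.nondeg
  isom := polar_isom h.isom
  prime := h.prime
  ne_two := h.ne_two
  pow := h.pow
  char := h.char
  ne_one := h.ne_one

theorem iterate_eq (x : Module.End F V) (k : ℕ) (v : V) : x^[k] v = (x ^ k) v := by
  induction k generalizing v with
  | zero => rfl
  | succ k ih =>
    rw [Function.iterate_succ_apply, ih, pow_succ, Module.End.mul_apply]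

/-- The sign of a block. -/
theorem IsoQ.dvd_sign (h : IsoQ Q x l) {Z : Submodule F V} (hZ : Inv x Z) (hfix : ∀ z ∈ Z, x z = z → z = 0)
    {m : ℕ} {ε : ℤ} (hs : HasSign (⇑(Q.comp Z.subtype)) m ε) : (l : ℤ) ∣ ε * (Nat.card F : ℤ) ^ m - 1 := by
  refine dvd_sub_one hs h.prime (resE x hZ) ?_ (fun v => h.isom _) 0 (QuadraticMap.map_zero _) (map_zero _) ?_
  · intro v
    rw [iterate_eq]
    apply Subtype.ext
    rw [resE_pow, h.pow]
    rfl
  · intro v hv
    exact Subtype.ext (hfix v v.2 (congrArg Subtype.val hv))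

theorem nondeg_comp {Z : Submodule F V} (hnd : NonDeg (polar ⇑Q) Z) : Nondeg (Q.comp Z.subtype) := by
  intro v hv
  exact Subtype.ext (hnd v v.2 fun w hw => hv ⟨w, hw⟩)

/-- The product formula. -/
theorem sign_split {C Y : Submodule F V} (hc : IsCompl C Y) (horth : ∀ c ∈ C, ∀ y ∈ Y, polar ⇑Q c y = 0) {n m k : ℕ}
    {ε εC εY : ℤ} (hV : HasSign (⇑Q) n ε) (hC : HasSign (⇑(Q.comp C.subtype)) k εC)
    (hY : HasSign (⇑(Q.comp Y.subtype)) m εY) (h : ε = 1 ∨ ε = -1) (h1 : εC = 1 ∨ εC = -1) (h2 : εY = 1 ∨ εY = -1) :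
    ε = εC * εY ∧ n = k + m := by
  have h3 : HasSign (⇑Q) (k + m) (εC * εY) := by
    refine (hC.prod hY).congr (Submodule.prodEquivOfIsCompl C Y hc).toEquiv ?_
    rintro ⟨c, y⟩
    change Q ((c : V) + y) = Q c + Q y
    have := horth c c.2 y y.2
    rw [polar, sub_sub, sub_eq_zero] at this
    rw [this]
  refine hV.sign_eq h3 h ?_
  rcases h1 with rfl | rfl <;> rcases h2 with rfl | rfl <;> simp

theorem sign_unique (hl : l.Prime) (hl2 : l ≠ 2) {ε ε' : ℤ} (h1 : ε = 1 ∨ ε = -1) (h2 : ε' = 1 ∨ ε' = -1) {a : ℤ}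
    (h : (l : ℤ) ∣ ε * a - 1) (h' : (l : ℤ) ∣ ε' * a - 1) : ε = ε' := by
  have key : ¬ (l : ℤ) ∣ 2 := by
    intro h3
    have h4 : l ∣ 2 := by exact_mod_cast h3
    exact hl2 ((Nat.prime_dvd_prime_iff_eq hl Nat.prime_two).1 h4)
  rcases h1 with rfl | rfl <;> rcases h2 with rfl | rfl
  · rfl
  · exfalso
    apply key
    have := dvd_add h h'
    rw [show (1 * a - 1 + (-1 * a - 1) : ℤ) = -2 by ring] at this
    exact (dvd_neg.1 this)
  · exfalso
    apply key
    have := dvd_add h h'
    rw [show (-1 * a - 1 + (1 * a - 1) : ℤ) = -2 by ring] at this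
    exact (dvd_neg.1 this)
  · rfl

end Cfsg.Agent.H377.Fpf
end

private theorem dce_a91b5d4babdc : _root_.True := by
  try have : _root_.True := by simp only [_root_.Cfsg.Agent.H182.Cent.IsoP.Y.congr_simp]
  exact _root_.True.intro
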